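import Mathlib
import Groth.Agent.Lib.Helper8.EtaleBir
import Groth.Agent.Lib.Lead.QC.CartierBC
import Groth.Prelude.Def_FGA
import Groth.Prelude.Def_Pi1

/-!
# A prime divisor of degree one over a normal Cartier divisor in a finite étale cover

`f : Y ⟶ X` finite étale, `D ⊆ X` an effective Cartier divisor which is integral and normal,
`E ⊆ Y` an integral closed subscheme mapping onto `D` with residue degree one at the generic point.
Then `E ⟶ D` is an isomorphism and `E` is an effective Cartier divisor.
-/

set_option autoImplicit false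
universe u
open CategoryTheory CategoryTheory.Limits AlgebraicGeometry

namespace Groth.Agent.H8.WeilSplit

/-- A field extension of degree one is bijective. -/
lemma bijective_algebraMap_of_finrank_eq_one (K L : Type*) [Field K] [Field L] [Algebra K L]
    (h : Module.finrank K L = 1) : Function.Bijective (algebraMap K L) := by
  refine ⟨(algebraMap K L).injective, ?_⟩
  rw [Algebra.surjective_algebraMap_iff]
  exact (Subalgebra.bot_eq_top_of_finrank_eq_one h).symm

/-- A finite surjective morphism of integral schemes onto a normal one, of degree one at the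
generic point, is an isomorphism. -/
theorem isIso_of_finite_birational {E D : Scheme.{u}} [IsIntegral E] [IsIntegral D]
    (hDn : ∀ y : D, IsIntegrallyClosed (D.presheaf.stalk y)) (g : E ⟶ D) [IsFinite g]
    (hsurj : Function.Surjective g.base)
    (hdeg : g.residueDegree (genericPoint E) = 1) : IsIso g := by
  have hgen : g (genericPoint E) = genericPoint D := by
    obtain ⟨e', he'⟩ := hsurj (genericPoint D)
    have h1 : genericPoint E ⤳ e' := (genericPoint_spec E).specializes trivial
    have h2 : g (genericPoint E) ⤳ genericPoint D := by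
      rw [← he']; exact h1.map g.continuous
    have h3 : genericPoint D ⤳ g (genericPoint E) := (genericPoint_spec D).specializes trivial
    exact (h2.antisymm h3).eq
  have hres : Function.Bijective (g.residueFieldMap (genericPoint E)).hom := by
    letI := (g.residueFieldMap (genericPoint E)).hom.toAlgebra
    exact bijective_algebraMap_of_finrank_eq_one _ _ hdeg
  have hF1 : IsField (E.presheaf.stalk (genericPoint E)) := Field.toIsField E.functionField
  have hF2 : IsField (D.presheaf.stalk (g (genericPoint E))) := by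
    rw [hgen]; exact Field.toIsField D.functionField
  have hsq := Scheme.residue_residueFieldMap g (genericPoint E)
  have hbij : Function.Bijective (g.stalkMap (genericPoint E)).hom := by
    have h1 : Function.Bijective (E.residue (genericPoint E)).hom :=
      EtaleBir.residue_bijective_of_isField _ hF1
    have h2 : Function.Bijective (D.residue (g (genericPoint E))).hom :=
      EtaleBir.residue_bijective_of_isField _ hF2
    have h3 : Function.Bijective ((E.residue (genericPoint E)).hom ∘
        (g.stalkMap (genericPoint E)).hom) := by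
      have : ((E.residue (genericPoint E)).hom : _ → _) ∘ (g.stalkMap (genericPoint E)).hom =
          (g.residueFieldMap (genericPoint E)).hom ∘ (D.residue (g (genericPoint E))).hom := by
        ext a
        exact congr(($hsq).hom a).symm
      rw [this]
      exact hres.comp h2
    exact (Function.Bijective.of_comp_iff' h1 _).mp h3
  have hiso : IsIso (g.stalkMap (genericPoint E)) :=
    (ConcreteCategory.isIso_iff_bijective _).mpr hbij
  have hoi : IsOpenImmersion g :=
    (LocalIso.isLocalIso_of_birational hDn g hgen hiso).2 inferInstance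
  haveI : Epi g.base := (TopCat.epi_iff_surjective _).mpr hsurj
  exact IsOpenImmersion.isIso g

/-- A section of an étale morphism is an open immersion. -/
theorem isOpenImmersion_of_section_of_etale {D D' : Scheme.{u}} (p : D' ⟶ D) [Etale p]
    (s : D ⟶ D') (hs : s ≫ p = 𝟙 D) : IsOpenImmersion s := by
  haveI : Etale (s ≫ p) := by rw [hs]; infer_instance
  haveI : Etale s := Etale.of_comp s p
  haveI : Mono s := mono_of_mono_fac hs
  exact IsOpenImmersion.of_flat_of_mono s

/-- Kernels on sections agree when the comparison map is injective on sections. -/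
lemma ker_app_eq_of_fac {E D' Y : Scheme.{u}} (ι : E ⟶ Y) (h : E ⟶ D') (p : D' ⟶ Y)
    (hfac : h ≫ p = ι) (U : Y.Opens) (hinj : Function.Injective (h.app (p ⁻¹ᵁ U)).hom) :
    RingHom.ker (ι.app U).hom = RingHom.ker (p.app U).hom := by
  subst hfac
  ext a
  rw [RingHom.mem_ker, RingHom.mem_ker]
  have key : ((h ≫ p).app U).hom a = (h.app (p ⁻¹ᵁ U)).hom ((p.app U).hom a) := by
    rw [Scheme.Hom.comp_app]; rfl
  constructor
  · intro h0
    rw [key] at h0
    apply hinj
    rw [h0, map_zero]
    rfl
  · intro h0
    rw [key, h0, map_zero]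
    rfl

theorem main {X Y : Scheme.{u}} (f : Y ⟶ X) [IsFinite f] [Etale f]
    (D : X.IdealSheafData) (hD : FGA.IsEffCartier D) [IsIntegral D.subscheme]
    (hDn : Pi1.IsNormalScheme D.subscheme)
    (E : Y.IdealSheafData) [IsIntegral E.subscheme]
    (g : (E.subscheme : Scheme.{u}) ⟶ D.subscheme) (hg : g ≫ D.subschemeι = E.subschemeι ≫ f)
    (hsurj : Function.Surjective g.base)
    (hdeg : g.residueDegree (genericPoint E.subscheme) = 1) :
    IsIso g ∧ FGA.IsEffCartier E := by
  haveI hfin : IsFinite g := by
    haveI : IsFinite (g ≫ D.subschemeι) := by rw [hg]; infer_instance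
    exact IsFinite.of_comp g D.subschemeι
  have hgiso : IsIso g := isIso_of_finite_birational (fun y => (hDn y).2) g hsurj hdeg
  refine ⟨hgiso, ?_⟩
  let h : E.subscheme ⟶ pullback f D.subschemeι := pullback.lift E.subschemeι g hg.symm
  have hh1 : h ≫ pullback.fst f D.subschemeι = E.subschemeι := pullback.lift_fst _ _ _
  have hh2 : h ≫ pullback.snd f D.subschemeι = g := pullback.lift_snd _ _ _
  let s : D.subscheme ⟶ pullback f D.subschemeι := inv g ≫ h
  have hs : s ≫ pullback.snd f D.subschemeι = 𝟙 _ := by
    simp only [s, Category.assoc, hh2, IsIso.inv_hom_id]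
  haveI hso : IsOpenImmersion s :=
    isOpenImmersion_of_section_of_etale (pullback.snd f D.subschemeι) s hs
  haveI hho : IsOpenImmersion h := by
    have : h = g ≫ s := by simp only [s, IsIso.hom_inv_id_assoc]
    rw [this]; infer_instance
  intro y
  by_cases hy : y ∈ Set.range E.subschemeι
  · obtain ⟨e, rfl⟩ := hy
    have hcl : IsClosed ((pullback.fst f D.subschemeι) '' ((h.opensRange : Set _)ᶜ)) :=
      (pullback.fst f D.subschemeι).isClosedEmbedding.isClosedMap _
        h.opensRange.isOpen.isClosed_compl
    let O : Y.Opens := ⟨_, hcl.isOpen_compl⟩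
    have hO : ∀ z : Y, z ∈ O ↔
        z ∉ (pullback.fst f D.subschemeι) '' ((h.opensRange : Set _)ᶜ) := fun z => Iff.rfl
    have hyO : E.subschemeι e ∈ O := by
      rw [hO]
      rintro ⟨z', hz', hz'e⟩
      apply hz'
      have : z' = h e := by
        apply (pullback.fst f D.subschemeι).isClosedEmbedding.injective
        rw [hz'e, ← Scheme.Hom.comp_apply, hh1]
      rw [this]
      exact ⟨e, rfl⟩
    obtain ⟨V₀, hxV₀, t, ht, hIt⟩ := hD (f (E.subschemeι e))
    obtain ⟨U, hU, hyU, hUle⟩ := exists_isAffineOpen_mem_and_subset (x := E.subschemeι e)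
      (U := f ⁻¹ᵁ V₀.1 ⊓ O) ⟨hxV₀, hyO⟩
    have hUV : U ≤ f ⁻¹ᵁ V₀.1 := fun z hz => (hUle hz).1
    have hUO : U ≤ O := fun z hz => (hUle hz).2
    refine ⟨⟨U, hU⟩, hyU, f.appLE V₀.1 U hUV t, ?_, ?_⟩
    · letI : Algebra Γ(X, V₀.1) Γ(Y, U) := (f.appLE V₀.1 U hUV).hom.toAlgebra
      haveI : Module.Flat Γ(X, V₀.1) Γ(Y, U) := f.flat_appLE V₀.2 hU hUV
      exact LD.QC.map_mem_nonZeroDivisors_of_flat (A := Γ(X, V₀.1)) (B := Γ(Y, U)) ht
    · have hpre : (pullback.fst f D.subschemeι) ⁻¹ᵁ U ≤ h.opensRange := by
        intro z' hz'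
        by_contra hcon
        exact (hO _).1 (hUO hz') ⟨z', hcon, rfl⟩
      haveI := h.isIso_app _ hpre
      have hinj : Function.Injective (h.app ((pullback.fst f D.subschemeι) ⁻¹ᵁ U)).hom :=
        (ConcreteCategory.bijective_of_isIso (h.app _)).1
      have h1 : E.ideal ⟨U, hU⟩ = RingHom.ker ((pullback.fst f D.subschemeι).app U).hom := by
        rw [← E.ker_subschemeι_app ⟨U, hU⟩]
        exact ker_app_eq_of_fac E.subschemeι h _ hh1 U hinj
      have h2 : (D.comap f).ideal ⟨U, hU⟩ =
          RingHom.ker ((pullback.fst f D.subschemeι).app U).hom :=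
        Scheme.Hom.ker_apply (pullback.fst f D.subschemeι) ⟨U, hU⟩
      rw [h1, ← h2, LD.QC.ideal_comap_of_le D f V₀ ⟨U, hU⟩ hUV, hIt, Ideal.map_span,
        Set.image_singleton]
  · have hopen : IsOpen ((Set.range E.subschemeι)ᶜ) := by
      rw [E.range_subschemeι]; exact E.support.isClosed.isOpen_compl
    let O : Y.Opens := ⟨_, hopen⟩
    have hyO : y ∈ O := hy
    obtain ⟨U, hU, hyU, hUle⟩ := exists_isAffineOpen_mem_and_subset (x := y) (U := O) hyO
    refine ⟨⟨U, hU⟩, hyU, 1, one_mem _, ?_⟩
    have hempty : E.subschemeι ⁻¹ᵁ U = ⊥ := by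
      rw [eq_bot_iff]
      intro z hz
      exact ((hUle hz) ⟨z, rfl⟩).elim
    rw [Ideal.span_singleton_one, eq_top_iff]
    intro a _
    rw [← E.ker_subschemeι_app ⟨U, hU⟩, RingHom.mem_ker]
    haveI : Subsingleton Γ(E.subscheme, E.subschemeι ⁻¹ᵁ U) := by
      rw [hempty]; infer_instance
    exact Subsingleton.elim _ _

end Groth.Agent.H8.WeilSplit
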